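import Groth.Agent.LCI15.Vasconcelos

/-!
# Regular sequences from free summands of the conormal module
-/

universe u

open CategoryTheory RingTheory.Sequence Module
open scoped nonZeroDivisors Pointwise

namespace Groth.Agent.LCI15

variable {R : Type u} [CommRing R] [IsNoetherianRing R]

/-- A free summand of the conormal module of an ideal of finite projective dimension is spanned by
a (weakly) regular sequence contained in the ideal. -/
theorem exists_regular_of_free_summand (I : Ideal R) {n : ℕ} (hpd : PD R n I)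
    (F G : Submodule (R ⧸ I) I.Cotangent) (hFG : IsCompl F G) {r : ℕ}
    (e : F ≃ₗ[R ⧸ I] (Fin r → R ⧸ I)) :
    ∃ (x : Fin r → R) (hx : ∀ i, x i ∈ I), IsWeaklyRegular R (List.ofFn x) ∧
      Submodule.span (R ⧸ I) (Set.range fun i => I.toCotangent ⟨x i, hx i⟩) = F := by
  classical
  choose a ha using fun i ↦ I.toCotangent_surjective ((e.symm (Pi.single i 1) : F) : I.Cotangent)
  let φ : Fin r → I →ₗ[R] R ⧸ I := fun i ↦
    (((LinearMap.proj i).comp (e.toLinearMap.comp (F.projectionOnto G hFG))).restrictScalars R).comp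
      I.toCotangent
  have hφ : ∀ i j, φ i (a j) = (Pi.single j 1 : Fin r → R ⧸ I) i := fun i j ↦ by
    simp only [φ, LinearMap.comp_apply, LinearMap.coe_restrictScalars, ha,
      Submodule.projectionOnto_apply_left, LinearEquiv.coe_coe, LinearEquiv.apply_symm_apply,
      LinearMap.proj_apply]
  obtain ⟨x, hx2, hreg⟩ := exists_regular_sequence r R I n hpd a φ (fun i ↦ by simp [hφ])
    (fun i j hij ↦ by simp [hφ, hij])
  have hx : ∀ i, x i ∈ I := fun i ↦ by
    simpa using I.add_mem (Ideal.pow_le_self two_ne_zero (hx2 i)) (a i).2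
  refine ⟨x, hx, hreg, ?_⟩
  have hcot : (fun i => I.toCotangent ⟨x i, hx i⟩) =
      fun i => ((e.symm (Pi.single i 1) : F) : I.Cotangent) :=
    funext fun i ↦ by rw [← ha, Ideal.toCotangent_eq]; exact hx2 i
  have hset : (fun i => ((e.symm (Pi.single i 1) : F) : I.Cotangent)) =
      F.subtype ∘ e.symm ∘ Pi.basisFun (R ⧸ I) (Fin r) :=
    funext fun i ↦ by simp
  rw [hcot, hset, Set.range_comp, ← Submodule.map_span, Set.range_comp,
    ← LinearEquiv.coe_coe, ← Submodule.map_span, (Pi.basisFun _ _).span_eq, Submodule.map_top,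
    LinearEquiv.range, Submodule.map_top, Submodule.range_subtype]

/-- The conormal module of a localized ideal is projective. -/
theorem projective_cotangent_map (I : Ideal R) [Module.Projective (R ⧸ I) I.Cotangent]
    (S : Submonoid R) (A : Type u) [CommRing A] [Algebra R A] [IsLocalization S A] :
    Module.Projective (A ⧸ I.map (algebraMap R A)) (I.map (algebraMap R A)).Cotangent := by
  classical
  set J := I.map (algebraMap R A) with hJ
  have : Module.Finite R I.Cotangent := Module.Finite.of_surjective _ I.toCotangent_surjective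
  have : Module.Finite (R ⧸ I) I.Cotangent :=
    Module.Finite.of_restrictScalars_finite R (R ⧸ I) I.Cotangent
  obtain ⟨m, f, hf⟩ := Module.Finite.exists_fin' (R ⧸ I) I.Cotangent
  obtain ⟨s, hs⟩ := Module.projective_lifting_property f LinearMap.id hf
  choose a ha using fun j ↦ I.toCotangent_surjective (f (Pi.single j 1))
  let θ : (R ⧸ I) →ₗ[R] A ⧸ J := Submodule.liftQ I
    (((Algebra.linearMap A (A ⧸ J)).restrictScalars R).comp (Algebra.linearMap R A))
    fun b hb ↦ Ideal.Quotient.eq_zero_iff_mem.mpr (Ideal.mem_map_of_mem _ hb)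
  let f₀ : I →ₗ[R] J := Algebra.idealMap I (S := A)
  have hunit : ∀ (M : Type u) [AddCommGroup M] [Module R M] [Module A M] [IsScalarTower R A M]
      (t : S), IsUnit (algebraMap R (Module.End R M) t) := fun M _ _ _ _ t ↦ by
    refine (Module.End.isUnit_iff _).mpr ⟨fun v w hvw ↦ ?_, fun v ↦ ?_⟩
    · have : algebraMap R A t • v = algebraMap R A t • w := by simpa using hvw
      simpa using (IsLocalization.map_units A t).smul_left_cancel.mp this
    · exact ⟨((IsLocalization.map_units A t).unit⁻¹ : Aˣ).1 • v, by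
        simp [← algebraMap_smul A (t : R), smul_smul]⟩
  let ψ : Fin m → J →ₗ[A] A ⧸ J := fun j ↦ LinearMap.extendScalarsOfIsLocalization S A
    (IsLocalizedModule.lift S f₀
      (θ.comp (((LinearMap.proj j).comp s).restrictScalars R |>.comp I.toCotangent))
      (hunit (A ⧸ J)))
  let σ : J.Cotangent →ₗ[A ⧸ J] (Fin m → A ⧸ J) :=
    (LinearMap.pi fun j ↦ Ideal.Cotangent.lift (ψ j) fun v w ↦ by
      rw [show v * w = (v : A) • w from Subtype.ext rfl, map_smul, Algebra.smul_def,
        Ideal.Quotient.algebraMap_eq, Ideal.Quotient.eq_zero_iff_mem.mpr v.2,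
        zero_mul]).extendScalarsOfSurjective Ideal.Quotient.mk_surjective
  let τ : (Fin m → A ⧸ J) →ₗ[A ⧸ J] J.Cotangent :=
    Fintype.linearCombination (A ⧸ J) fun j ↦ J.toCotangent (f₀ (a j))
  refine Module.Projective.of_split σ τ ?_
  apply LinearMap.ext
  intro v
  obtain ⟨v, rfl⟩ := J.toCotangent_surjective v
  suffices ((τ.restrictScalars A).comp ((σ.restrictScalars A).comp J.toCotangent)).restrictScalars R
      = J.toCotangent.restrictScalars R from LinearMap.congr_fun this v
  refine IsLocalizedModule.ext S f₀ (hunit J.Cotangent) (LinearMap.ext fun b ↦ ?_)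
  -- map the identity on `I.Cotangent`
  let κ : I.Cotangent →ₗ[R] J.Cotangent :=
    Submodule.liftQ _ ((J.toCotangent.restrictScalars R).comp f₀) fun c hc ↦ by
      refine Submodule.smul_induction_on hc (fun t ht d _ ↦ ?_) (fun c d hc hd ↦ ?_)
      · rw [LinearMap.mem_ker, map_smul, LinearMap.comp_apply, LinearMap.coe_restrictScalars,
          ← algebraMap_smul A t]
        exact Ideal.Cotangent.smul_eq_zero_of_mem (Ideal.mem_map_of_mem _ ht) _
      · exact Submodule.add_mem _ hc hd
  have hκ : ∀ (c : R ⧸ I) (d : I.Cotangent), κ (c • d) = θ c • κ d := by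
    intro c d
    obtain ⟨t, rfl⟩ := Ideal.Quotient.mk_surjective c
    rw [show Ideal.Quotient.mk I t • d = t • d from algebraMap_smul (R ⧸ I) t d, map_smul,
      ← algebraMap_smul A t (κ d), ← algebraMap_smul (A ⧸ J) (algebraMap R A t) (κ d)]
    rfl
  have key : κ (I.toCotangent b) = ∑ j, θ (s (I.toCotangent b) j) • κ (I.toCotangent (a j)) := by
    conv_lhs => rw [← LinearMap.id_apply (R := R ⧸ I) (I.toCotangent b), ← hs, LinearMap.comp_apply,
      LinearMap.pi_apply_eq_sum_univ f (s (I.toCotangent b))]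
    rw [map_sum]
    refine Finset.sum_congr rfl fun j _ ↦ ?_
    rw [hκ, ha]
    congr 3
    ext k; simp [Pi.single_apply, eq_comm]
  change τ (σ (J.toCotangent (f₀ b))) = κ (I.toCotangent b)
  rw [key, Fintype.linearCombination_apply]
  refine Finset.sum_congr rfl fun j _ ↦ ?_
  change ψ j (f₀ b) • _ = _
  simp only [ψ, LinearMap.extendScalarsOfIsLocalization_apply', IsLocalizedModule.lift_apply]
  rfl

/-- Multiplying the members of a sequence by a unit does not change the ideal they generate. -/
lemma ofList_map_unit {A : Type u} [CommRing A] {c : A} (hc : IsUnit c) (l : List A) :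
    Ideal.ofList (l.map (c * ·)) = Ideal.ofList l := by
  induction l with
  | nil => simp
  | cons b l ih =>
    rw [List.map_cons, Ideal.ofList_cons, Ideal.ofList_cons, ih,
      Ideal.span_singleton_mul_left_unit hc]

lemma isWeaklyRegular_iff_colon {A : Type u} [CommRing A] (l : List A) :
    IsWeaklyRegular A l ↔ ∀ (i : ℕ) (h : i < l.length) (z : A),
      l[i] * z ∈ Ideal.ofList (l.take i) → z ∈ Ideal.ofList (l.take i) := by
  simp only [isWeaklyRegular_iff, isSMulRegular_quotient_iff_mem_of_smul_mem, smul_eq_mul,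
    Ideal.mul_top]

lemma isWeaklyRegular_map_unit {A : Type u} [CommRing A] {c : A} (hc : IsUnit c) {l : List A}
    (h : IsWeaklyRegular A l) : IsWeaklyRegular A (l.map (c * ·)) := by
  rw [isWeaklyRegular_iff_colon] at h ⊢
  intro i hi z hz
  rw [List.length_map] at hi
  simp only [List.getElem_map, ← List.map_take, ofList_map_unit hc, mul_assoc] at hz ⊢
  exact h i hi z ((Ideal.unit_mul_mem_iff_mem _ hc).mp hz)

/-- If a family of elements `a` of `I` becomes, at a prime, a regular sequence generating `I`,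
then the same is true away from some element outside the prime. -/
theorem exists_spread_out (I : Ideal R) (p : Ideal R) [p.IsPrime] (hIp : I ≤ p) (L : List R)
    (hLI : Ideal.ofList L ≤ I)
    (hreg : IsWeaklyRegular (Localization.AtPrime p)
      (L.map (algebraMap R (Localization.AtPrime p))))
    (hgen : I.map (algebraMap R (Localization.AtPrime p)) ≤
      (Ideal.ofList L).map (algebraMap R (Localization.AtPrime p))) :
    ∃ g : R, g ∉ p ∧ ∃ rs : List (Localization.Away g),
      RingTheory.Sequence.IsRegular (Localization.Away g) rs ∧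
        Ideal.ofList rs = I.map (algebraMap R (Localization.Away g)) := by
  classical
  let A := Localization.AtPrime p
  -- an element killing `K` modulo `N`, for finitely generated `K` contained in `N` at `p`
  have clear : ∀ K N : Ideal R, K.map (algebraMap R A) ≤ N.map (algebraMap R A) →
      ∃ g : R, g ∉ p ∧ ∀ z ∈ K, g * z ∈ N := by
    intro K N hKN
    obtain ⟨s, hs⟩ := IsNoetherian.noetherian (R := R) K
    have : ∀ z ∈ s, ∃ t : R, t ∉ p ∧ t * z ∈ N := fun z hz ↦ by
      obtain ⟨t, ht, htz⟩ := (IsLocalization.algebraMap_mem_map_algebraMap_iff p.primeCompl A _ _).mp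
        (hKN (Ideal.mem_map_of_mem _ (hs ▸ Submodule.subset_span hz : z ∈ K)))
      exact ⟨t, ht, htz⟩
    choose! t ht htz using this
    refine ⟨∏ z ∈ s, t z, fun h ↦ ?_, fun z hz ↦ ?_⟩
    · obtain ⟨z, hz, h⟩ := Ideal.IsPrime.prod_mem_iff.mp h
      exact ht z hz h
    · rw [← hs] at hz
      induction hz using Submodule.span_induction with
      | mem z hz =>
        rw [← Finset.prod_erase_mul s t hz, mul_assoc]
        exact N.mul_mem_left _ (htz z hz)
      | zero => simp
      | add z w _ _ h1 h2 => rw [mul_add]; exact N.add_mem h1 h2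
      | smul c z _ h1 => rw [smul_eq_mul, mul_left_comm]; exact N.mul_mem_left c h1
  obtain ⟨g0, hg0, hg0I⟩ := clear I (Ideal.ofList L) hgen
  -- the colon ideals
  let K : ℕ → Ideal R := fun i ↦
    Submodule.comap (LinearMap.mulLeft R (L.getD i 0)) (Ideal.ofList (L.take i))
  rw [isWeaklyRegular_iff_colon] at hreg
  have hK : ∀ i : Fin L.length, (K i).map (algebraMap R A) ≤
      (Ideal.ofList (L.take i)).map (algebraMap R A) := by
    intro i
    rw [Ideal.map_le_iff_le_comap]
    intro z hz
    have hz' : L.getD i 0 * z ∈ Ideal.ofList (L.take i) := hz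
    rw [List.getD_eq_getElem _ _ i.2] at hz'
    rw [Ideal.mem_comap, Ideal.map_ofList, List.map_take]
    refine hreg i (by simp) _ ?_
    rw [List.getElem_map, ← map_mul, ← List.map_take, ← Ideal.map_ofList]
    exact Ideal.mem_map_of_mem _ hz'
  choose gs hgs hgsK using fun i : Fin L.length ↦ clear _ _ (hK i)
  let g := g0 * ∏ i, gs i
  have hg : g ∉ p := fun h ↦ (Ideal.IsPrime.mem_or_mem ‹_› h).elim hg0 fun h ↦ by
    obtain ⟨i, -, hi⟩ := Ideal.IsPrime.prod_mem_iff.mp h
    exact hgs i hi
  refine ⟨g, hg, L.map (algebraMap R (Localization.Away g)), ?_, ?_⟩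
  swap
  · rw [← Ideal.map_ofList]
    refine le_antisymm (Ideal.map_mono hLI) (Ideal.map_le_iff_le_comap.mpr fun z hz ↦ ?_)
    rw [Ideal.mem_comap, IsLocalization.algebraMap_mem_map_algebraMap_iff (Submonoid.powers g)]
    refine ⟨g, Submonoid.mem_powers g, ?_⟩
    change g0 * (∏ i, gs i) * z ∈ _
    rw [mul_comm g0 (∏ i, gs i), mul_assoc]
    exact Ideal.mul_mem_left _ _ (hg0I z hz)
  refine ⟨(isWeaklyRegular_iff_colon _).mpr fun i hi z hz ↦ ?_, fun htop ↦ ?_⟩
  · rw [List.length_map] at hi
    rw [List.getElem_map] at hz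
    rw [← List.map_take, ← Ideal.map_ofList] at hz ⊢
    obtain ⟨r, t, rfl⟩ := IsLocalization.exists_mk'_eq (Submonoid.powers g) z
    rw [IsLocalization.mul_mk'_eq_mk'_of_mul, IsLocalization.mk'_mem_map_algebraMap_iff] at hz
    obtain ⟨v, hv, hvr⟩ := hz
    rw [IsLocalization.mk'_mem_map_algebraMap_iff]
    refine ⟨g * v, mul_mem (Submonoid.mem_powers g) hv, ?_⟩
    have hvK : v * r ∈ K i := by
      change L.getD i 0 * (v * r) ∈ Ideal.ofList (L.take i)
      rwa [List.getD_eq_getElem _ _ hi, mul_left_comm]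
    obtain ⟨c, hc⟩ : gs ⟨i, hi⟩ ∣ g :=
      (Finset.dvd_prod_of_mem gs (Finset.mem_univ _)).mul_left _
    rw [hc, mul_comm (gs _) c, mul_assoc c, mul_assoc c, mul_assoc]
    exact Ideal.mul_mem_left _ _ (hgsK ⟨i, hi⟩ _ hvK)
  · rw [smul_eq_mul, Ideal.mul_top, ← Ideal.map_ofList] at htop
    have : (1 : Localization.Away g) ∈ p.map (algebraMap R (Localization.Away g)) :=
      Ideal.map_mono (hLI.trans hIp) (htop ▸ Submodule.mem_top)
    rw [← map_one (algebraMap R (Localization.Away g)),
      IsLocalization.algebraMap_mem_map_algebraMap_iff (Submonoid.powers g)] at this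
    obtain ⟨t, ⟨k, rfl⟩, ht⟩ := this
    rw [mul_one] at ht
    exact hg (Ideal.IsPrime.mem_of_pow_mem ‹_› k ht)

/-- Vasconcelos' theorem. -/
theorem exists_away_regular (I : Ideal R) {n : ℕ} (hpd : PD R n I)
    [Module.Projective (R ⧸ I) I.Cotangent] (p : Ideal R) [p.IsPrime] (hIp : I ≤ p) :
    ∃ g : R, g ∉ p ∧ ∃ rs : List (Localization.Away g),
      RingTheory.Sequence.IsRegular (Localization.Away g) rs ∧
        Ideal.ofList rs = I.map (algebraMap R (Localization.Away g)) := by
  let A := Localization.AtPrime p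
  set J := I.map (algebraMap R A) with hJdef
  have hJm : J ≤ IsLocalRing.maximalIdeal A :=
    (Localization.AtPrime.map_eq_maximalIdeal (I := p)) ▸ Ideal.map_mono hIp
  have hJt : J ≠ ⊤ := fun h ↦
    (IsLocalRing.maximalIdeal.isMaximal A).ne_top (top_le_iff.mp (h ▸ hJm))
  have : Nontrivial (A ⧸ J) := Ideal.Quotient.nontrivial_iff.mpr hJt
  have : IsLocalRing (A ⧸ J) :=
    IsLocalRing.of_surjective' (Ideal.Quotient.mk J) Ideal.Quotient.mk_surjective
  have : Module.Projective (A ⧸ J) J.Cotangent := projective_cotangent_map I p.primeCompl A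
  have : Module.Finite A J.Cotangent := Module.Finite.of_surjective _ J.toCotangent_surjective
  have : Module.Finite (A ⧸ J) J.Cotangent :=
    Module.Finite.of_restrictScalars_finite A (A ⧸ J) J.Cotangent
  have : Module.Free (A ⧸ J) J.Cotangent := Module.free_of_flat_of_isLocalRing
  let e : (⊤ : Submodule (A ⧸ J) J.Cotangent) ≃ₗ[A ⧸ J]
      (Fin (finrank (A ⧸ J) J.Cotangent) → A ⧸ J) :=
    Submodule.topEquiv.trans (Module.finBasis (A ⧸ J) J.Cotangent).equivFun
  obtain ⟨x, hx, hreg, hspan⟩ :=
    exists_regular_of_free_summand J (pd_map I p.primeCompl A hpd) ⊤ ⊥ isCompl_top_bot e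
  -- `x` generates `J`
  have hgen : J ≤ Ideal.ofList (List.ofFn x) := by
    refine Submodule.le_of_le_smul_of_le_jacobson_bot (I := J) (IsNoetherian.noetherian J)
      (hJm.trans (IsLocalRing.maximalIdeal_le_jacobson _)) fun z hz ↦ ?_
    have hmem : J.toCotangent ⟨z, hz⟩ ∈
        Submodule.span (A ⧸ J) (Set.range fun i => J.toCotangent ⟨x i, hx i⟩) := by
      rw [hspan]; trivial
    obtain ⟨c, hc⟩ := (Submodule.mem_span_range_iff_exists_fun _).mp hmem
    choose t ht using fun i ↦ Ideal.Quotient.mk_surjective (c i)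
    have heq : J.toCotangent (∑ i, t i • (⟨x i, hx i⟩ : J)) = J.toCotangent ⟨z, hz⟩ := by
      rw [map_sum, ← hc]
      exact Finset.sum_congr rfl fun i _ ↦ by
        rw [map_smul, ← ht]; exact (algebraMap_smul (A ⧸ J) (t i) _).symm
    have hd := (J.toCotangent_eq).mp heq.symm
    rw [smul_eq_mul, ← pow_two, Submodule.mem_sup]
    refine ⟨∑ i, t i * x i, Ideal.sum_mem _ fun i _ ↦ Ideal.mul_mem_left _ _
      (Ideal.subset_span (by simp)), _, hd, ?_⟩
    simp
  -- clear denominators
  obtain ⟨⟨c, hc⟩, hcx⟩ := IsLocalization.exist_integer_multiples_of_finite p.primeCompl x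
  choose b hb using hcx
  have hbI : ∀ i, ∃ s : R, s ∉ p ∧ s * b i ∈ I := fun i ↦ by
    have : algebraMap R A (b i) ∈ J := by
      rw [hb, ← algebraMap_smul A (c : R), smul_eq_mul]; exact J.mul_mem_left _ (hx i)
    obtain ⟨s, hs, hsb⟩ :=
      (IsLocalization.algebraMap_mem_map_algebraMap_iff p.primeCompl A _ _).mp this
    exact ⟨s, hs, hsb⟩
  choose s hs hsb using hbI
  let d := ∏ i, s i
  have hd : d ∉ p := fun h ↦ by
    obtain ⟨i, -, hi⟩ := Ideal.IsPrime.prod_mem_iff.mp h
    exact hs i hi
  have hunit : IsUnit (algebraMap R A (d * c)) :=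
    IsLocalization.map_units A (⟨d * c, mul_mem (show d ∈ p.primeCompl from hd) hc⟩ : p.primeCompl)
  have hmap : (List.ofFn fun i ↦ d * b i).map (algebraMap R A) =
      (List.ofFn x).map (algebraMap R A (d * c) * ·) := by
    rw [List.map_ofFn, List.map_ofFn]
    congr 1
    funext i
    simp only [Function.comp_apply, map_mul, hb]
    rw [← algebraMap_smul A (c : R), smul_eq_mul, mul_assoc]
  refine exists_spread_out I p hIp (List.ofFn fun i ↦ d * b i) ?_
    (hmap ▸ isWeaklyRegular_map_unit hunit hreg) ?_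
  · refine Ideal.span_le.mpr fun z hz ↦ ?_
    obtain ⟨i, rfl⟩ := List.mem_ofFn.mp hz
    obtain ⟨u, hu⟩ : s i ∣ d := Finset.dvd_prod_of_mem s (Finset.mem_univ i)
    change d * b i ∈ I
    rw [hu, mul_comm (s i) u, mul_assoc]
    exact I.mul_mem_left u (hsb i)
  · rw [Ideal.map_ofList, hmap, ofList_map_unit hunit]
    exact hgen

end Groth.Agent.LCI15
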