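import Groth.Agent.Tor15.TorDim
import Groth.Agent.CAlgH.FlatQuotient
import Mathlib.LinearAlgebra.ExteriorAlgebra.Basis
import Mathlib.LinearAlgebra.CliffordAlgebra.Contraction
import Mathlib.RingTheory.Polynomial.Basic
import Mathlib.RingTheory.Ideal.Operations
import Mathlib.RingTheory.Nilpotent.Defs

/-!
# A criterion for infinite tor dimension

A Koszul complex with a divided power variable killing the relation, compared with a free
resolution, gives the classes on which the degree `-2` operator of a square zero extension is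
multiplication by `g`.
-/

universe u

open Function CliffordAlgebra

namespace Groth.Agent.LCI15

section operator

variable {A : Type u} [CommRing A] {m : ℕ} (f' r' : Fin m → A)

/-- The exterior algebra on `A ^ m`. -/
abbrev Lam (A : Type u) [CommRing A] (m : ℕ) : Type u := ExteriorAlgebra A (Fin m → A)

noncomputable instance : Module.Free A (Lam A m) :=
  Module.Free.of_basis (Pi.basisFun A (Fin m)).ExteriorAlgebra

/-- Contraction by `f'`. -/
noncomputable def kos : Lam A m →ₗ[A] Lam A m :=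
  contractLeft (Q := (0 : QuadraticForm A (Fin m → A))) (∑ j, f' j • LinearMap.proj j)

/-- Multiplication by `r'`. -/
noncomputable def mulR : Lam A m →ₗ[A] Lam A m := LinearMap.mulLeft A (ExteriorAlgebra.ι A r')

/-- The differential `y^(l) x ↦ y^(l) ∂x + y^(l-1) r' x`. -/
noncomputable def dQ : (ℕ →₀ Lam A m) →ₗ[A] (ℕ →₀ Lam A m) :=
  Finsupp.lsum A fun l => Finsupp.lsingle l ∘ₗ kos f' +
    if l = 0 then 0 else Finsupp.lsingle (l - 1) ∘ₗ mulR r'

lemma dQ_zero (x : Lam A m) : dQ f' r' (Finsupp.single 0 x) = Finsupp.single 0 (kos f' x) := by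
  simp [dQ]

lemma dQ_succ (l : ℕ) (x : Lam A m) : dQ f' r' (Finsupp.single (l + 1) x) =
    Finsupp.single (l + 1) (kos f' x) + Finsupp.single l (mulR r' x) := by
  simp [dQ]

lemma kos_ι_mul (a : Fin m → A) (x : Lam A m) :
    kos f' (ExteriorAlgebra.ι A a * x) =
      (∑ j, f' j * a j) • x - ExteriorAlgebra.ι A a * kos f' x := by
  rw [kos, ExteriorAlgebra.ι, contractLeft_ι_mul]
  simp [LinearMap.sum_apply]

lemma kos_kos (x : Lam A m) : kos f' (kos f' x) = 0 := contractLeft_contractLeft _ x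

lemma dQ_dQ (c : A) (hc : ∑ j, f' j * r' j = c) (x : ℕ →₀ Lam A m) :
    ∃ y, dQ f' r' (dQ f' r' x) = c • y := by
  induction x using Finsupp.induction_linear with
  | zero => exact ⟨0, by simp⟩
  | add x y hx hy =>
    obtain ⟨a, ha⟩ := hx; obtain ⟨b, hb⟩ := hy
    exact ⟨a + b, by rw [map_add, map_add, ha, hb, smul_add]⟩
  | single l x =>
    match l with
    | 0 => exact ⟨0, by rw [dQ_zero, dQ_zero, kos_kos, Finsupp.single_zero, smul_zero]⟩
    | 1 =>
      refine ⟨Finsupp.single 0 x, ?_⟩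
      rw [dQ_succ, map_add, dQ_succ, dQ_zero, kos_kos, Finsupp.single_zero, zero_add,
        ← Finsupp.single_add, Finsupp.smul_single]
      congr 1
      rw [show kos f' (mulR r' x) = c • x - mulR r' (kos f' x) by
        simp [mulR, kos_ι_mul, hc]]
      abel
    | l + 2 =>
      refine ⟨Finsupp.single (l + 1) x, ?_⟩
      rw [dQ_succ, map_add, dQ_succ, dQ_succ, kos_kos, Finsupp.single_zero, zero_add,
        ← add_assoc, ← Finsupp.single_add]
      have h1 : mulR r' (mulR r' x) = 0 := by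
        simp [mulR, ← mul_assoc]
      rw [h1, Finsupp.single_zero, add_zero, Finsupp.smul_single]
      congr 1
      rw [show kos f' (mulR r' x) = c • x - mulR r' (kos f' x) by
        simp [mulR, kos_ι_mul, hc]]
      abel

lemma dQ_single_one (l : ℕ) :
    dQ f' r' (Finsupp.single (l + 1) 1) = Finsupp.single l (ExteriorAlgebra.ι A r') := by
  rw [dQ_succ, kos, contractLeft_one, Finsupp.single_zero, zero_add]
  simp [mulR]

lemma dQ_dQ_single_one (l : ℕ) :
    dQ f' r' (dQ f' r' (Finsupp.single (l + 1) 1)) =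
      (∑ j, f' j * r' j) • Finsupp.single l 1 := by
  rw [dQ_single_one]
  have hk : kos f' (ExteriorAlgebra.ι A r') = (∑ j, f' j * r' j) • 1 := by
    have h1 : kos f' (1 : Lam A m) = 0 := contractLeft_one _ _
    have := kos_ι_mul f' r' 1
    rw [mul_one, h1, mul_zero, sub_zero] at this
    exact this
  match l with
  | 0 => rw [dQ_zero, hk, Finsupp.smul_single]
  | l + 1 =>
    rw [dQ_succ, hk, Finsupp.smul_single]
    simp [mulR]

lemma algebraMapInv_kos (x : Lam A m) :
    ExteriorAlgebra.algebraMapInv (kos f' x) ∈ Ideal.span (Set.range f') := by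
  induction x using CliffordAlgebra.left_induction with
  | algebraMap a => rw [kos, contractLeft_algebraMap, map_zero]; exact zero_mem _
  | add x y hx hy => rw [map_add, map_add]; exact add_mem hx hy
  | ι_mul x a hx =>
    change ExteriorAlgebra.algebraMapInv (kos f' (ExteriorAlgebra.ι A a * x)) ∈ _
    rw [kos_ι_mul, map_sub, map_smul, map_mul]
    have : ExteriorAlgebra.algebraMapInv (ExteriorAlgebra.ι A a) = (0 : A) := by
      simp [ExteriorAlgebra.algebraMapInv]
    rw [this, zero_mul, sub_zero, smul_eq_mul]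
    refine Ideal.mul_mem_right _ _ (Ideal.sum_mem _ fun j _ => Ideal.mul_mem_right _ _ ?_)
    exact Ideal.subset_span ⟨j, rfl⟩

lemma algebraMapInv_dQ (x : ℕ →₀ Lam A m) :
    ExteriorAlgebra.algebraMapInv (dQ f' r' x 0) ∈ Ideal.span (Set.range f') := by
  induction x using Finsupp.induction_linear with
  | zero => simp
  | add x y hx hy => rw [map_add, Finsupp.add_apply, map_add]; exact add_mem hx hy
  | single l x =>
    match l with
    | 0 => rw [dQ_zero, Finsupp.single_eq_same]; exact algebraMapInv_kos f' x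
    | 1 =>
      rw [dQ_succ, Finsupp.add_apply, Finsupp.single_eq_same,
        Finsupp.single_eq_of_ne (by lia), zero_add, mulR, LinearMap.mulLeft_apply, map_mul]
      simp [ExteriorAlgebra.algebraMapInv]
    | l + 2 => rw [dQ_succ]; simp

end operator

section main

variable {P' P : Type u} [CommRing P'] [CommRing P] (π : P' →+* P)

/-- Reduction of vectors. -/
def pv {b : ℕ} (v : Fin b → P') : Fin b → P := fun i => π (v i)

lemma pv_add {b : ℕ} (v w : Fin b → P') : pv π (v + w) = pv π v + pv π w := by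
  ext i; simp [pv]

lemma pv_sub {b : ℕ} (v w : Fin b → P') : pv π (v - w) = pv π v - pv π w := by
  ext i; simp [pv]

lemma pv_smul {b : ℕ} (a : P') (v : Fin b → P') : pv π (a • v) = π a • pv π v := by
  ext i; simp [pv]

lemma pv_zero {b : ℕ} : pv π (0 : Fin b → P') = 0 := by
  ext i; simp [pv]

variable {π}

lemma pv_surjective (hπ : Surjective π) {b : ℕ} : Surjective (pv π : (Fin b → P') → _) := fun v =>
  ⟨fun i => surjInv hπ (v i), funext fun i => surjInv_eq hπ (v i)⟩

lemma pv_mem_smul {b : ℕ} {K : Ideal P'} {v : Fin b → P'}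
    (h : v ∈ K • (⊤ : Submodule P' (Fin b → P'))) : pv π v ∈ K.map π • (⊤ : Submodule P (Fin b → P)) := by
  refine Submodule.smul_induction_on h (fun a ha w _ => ?_) (fun v w hv hw => ?_)
  · rw [pv_smul]; exact Submodule.smul_mem_smul (Ideal.mem_map_of_mem π ha) trivial
  · rw [pv_add]; exact add_mem hv hw

lemma exists_pv_eq {b : ℕ} {K : Ideal P'} (hπ : Surjective π) {u : Fin b → P}
    (h : u ∈ K.map π • (⊤ : Submodule P (Fin b → P))) :
    ∃ v ∈ K • (⊤ : Submodule P' (Fin b → P')), pv π v = u := by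
  refine Submodule.smul_induction_on h (fun a ha w _ => ?_) (fun v w hv hw => ?_)
  · obtain ⟨a', ha', rfl⟩ := (Ideal.mem_map_iff_of_surjective π hπ).1 ha
    obtain ⟨w', rfl⟩ := pv_surjective hπ w
    exact ⟨a' • w', Submodule.smul_mem_smul ha' trivial, pv_smul π a' w'⟩
  · obtain ⟨v', hv', rfl⟩ := hv; obtain ⟨w', hw', rfl⟩ := hw
    exact ⟨v' + w', add_mem hv' hw', pv_add π v' w'⟩

lemma exists_smul_of_pv_eq_zero {f : P'} (hker : RingHom.ker π = Ideal.span {f}) {b : ℕ}
    {v : Fin b → P'} (h : pv π v = 0) : ∃ w, v = f • w := by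
  have : ∀ i, ∃ c, c * f = v i := fun i =>
    Ideal.mem_span_singleton'.1 (hker ▸ (congrFun h i : π (v i) = 0))
  choose c hc using this
  exact ⟨c, funext fun i => by rw [Pi.smul_apply, smul_eq_mul, mul_comm, hc]⟩

lemma mem_smul_top_of_forall {b : ℕ} {K : Ideal P'} {v : Fin b → P'} (h : ∀ j, v j ∈ K) :
    v ∈ K • (⊤ : Submodule P' (Fin b → P')) := by
  classical
  rw [pi_eq_sum_univ v]
  exact Submodule.sum_mem _ fun j _ => Submodule.smul_mem_smul (h j) trivial

/-- A linear map killed modulo `f` kills multiples of `K = Ann f`. -/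
lemma eq_zero_of_pv_eq_zero {f : P'} (hker : RingHom.ker π = Ideal.span {f}) {K : Ideal P'}
    (hK : ∀ a ∈ K, a * f = 0) {V : Type u} [AddCommGroup V] [Module P' V] {b : ℕ}
    (L : V →ₗ[P'] (Fin b → P')) (hL : ∀ v, pv π (L v) = 0) {z : V}
    (hz : z ∈ K • (⊤ : Submodule P' V)) : L z = 0 := by
  refine Submodule.smul_induction_on hz (fun a ha w _ => ?_) (fun v w hv hw => by rw [map_add, hv, hw, add_zero])
  obtain ⟨c, hc⟩ := exists_smul_of_pv_eq_zero hker (hL w)
  rw [map_smul, hc, smul_smul, hK a ha, zero_smul]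

/-- A lift of a linear map between free modules along `π`. -/
lemma exists_lift (hπ : Surjective π) {b c : ℕ} (d : (Fin b → P) →ₗ[P] (Fin c → P)) :
    ∃ d' : (Fin b → P') →ₗ[P'] (Fin c → P'), ∀ v, pv π (d' v) = d (pv π v) := by
  choose w hw using fun i => pv_surjective hπ (d (Pi.single i 1))
  refine ⟨Fintype.linearCombination P' w, fun v => ?_⟩
  rw [LinearMap.pi_apply_eq_sum_univ d (pv π v), Fintype.linearCombination_apply]
  ext j
  simp only [pv, Finset.sum_apply, map_sum, Pi.smul_apply, smul_eq_mul, map_mul]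
  refine Finset.sum_congr rfl fun i _ => ?_
  rw [show π (w i j) = d (Pi.single i 1) j from congrFun (hw i) j]
  rw [show (Pi.single i (1 : P) : Fin b → P) = fun k => if i = k then 1 else 0 from
    funext fun k => by simp [Pi.single_apply, eq_comm]]

/-- Comparison: lifts to the resolution of the operator `D`. -/
lemma exists_comparison (hπ : Surjective π) {f : P'} (hf : π f = 0) {V : Type u} [AddCommGroup V]
    [Module P' V] [Module.Free P' V] (D : V →ₗ[P'] V) (hDD : ∀ x, ∃ y, D (D x) = f • y)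
    (b : ℕ → ℕ) (d : ∀ i, (Fin (b (i + 1)) → P) →ₗ[P] (Fin (b i) → P))
    (hd : ∀ i, LinearMap.range (d (i + 1)) = LinearMap.ker (d i))
    (Φ₀ : V →ₗ[P'] (Fin (b 0) → P')) (h₀ : ∀ x, pv π (Φ₀ (D x)) ∈ LinearMap.range (d 0)) :
    ∃ Φ : ∀ i, V →ₗ[P'] (Fin (b i) → P'), Φ 0 = Φ₀ ∧
      ∀ i x, d i (pv π (Φ (i + 1) x)) = pv π (Φ i (D x)) := by
  classical
  let B := Module.Free.chooseBasis P' V
  -- one step
  have step : ∀ i (Φi : V →ₗ[P'] (Fin (b i) → P')),
      (∀ x, pv π (Φi (D x)) ∈ LinearMap.range (d i)) →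
      ∃ Ψ : V →ₗ[P'] (Fin (b (i + 1)) → P'),
        (∀ x, d i (pv π (Ψ x)) = pv π (Φi (D x))) ∧
          ∀ x, pv π (Ψ (D x)) ∈ LinearMap.range (d (i + 1)) := by
    intro i Φi hi
    choose y hy using fun e => hi (B e)
    choose w hw using fun e => pv_surjective hπ (y e)
    let Ψ := B.constr P' w
    have hΨ : ∀ x, d i (pv π (Ψ x)) = pv π (Φi (D x)) := by
      intro x
      rw [← B.linearCombination_repr x]
      induction B.repr x using Finsupp.induction_linear with
      | zero => simp [pv_zero]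
      | add x y hx hy => simp only [map_add, pv_add, hx, hy]
      | single e c =>
        simp only [Finsupp.linearCombination_single, map_smul, pv_smul, Ψ, B.constr_basis, hw, hy]
    refine ⟨Ψ, hΨ, fun x => ?_⟩
    rw [hd, LinearMap.mem_ker, hΨ]
    obtain ⟨z, hz⟩ := hDD x
    rw [hz, map_smul, pv_smul, hf, zero_smul]
  let T : ℕ → Type u := fun i => { Φi : V →ₗ[P'] (Fin (b i) → P') //
    ∀ x, pv π (Φi (D x)) ∈ LinearMap.range (d i) }
  let seq : ∀ i, T i := fun i => Nat.rec (motive := T) ⟨Φ₀, h₀⟩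
    (fun i Φi => ⟨(step i Φi.1 Φi.2).choose, (step i Φi.1 Φi.2).choose_spec.2⟩) i
  exact ⟨fun i => (seq i).1, rfl, fun i x => (step i (seq i).1 (seq i).2).choose_spec.1 x⟩

/-- A free resolution by finite free modules. -/
lemma exists_resolution [IsNoetherianRing P] (J : Ideal P) :
    ∃ (b : ℕ → ℕ) (d : ∀ i, (Fin (b (i + 1)) → P) →ₗ[P] (Fin (b i) → P))
      (q : (Fin (b 0) → P) →ₗ[P] P ⧸ J) (e : Fin (b 0) → P),
      (∀ a : P, q (a • e) = Ideal.Quotient.mk J a) ∧ Surjective q ∧
      LinearMap.range (d 0) = LinearMap.ker q ∧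
      ∀ i, LinearMap.range (d (i + 1)) = LinearMap.ker (d i) := by
  let T : Type u := Σ b : ℕ, Submodule P (Fin b → P)
  have step : ∀ t : T, ∃ (b : ℕ) (g : (Fin b → P) →ₗ[P] (Fin t.1 → P)),
      LinearMap.range g = t.2 := fun t => by
    obtain ⟨b, g, hg⟩ := Module.Finite.exists_fin' P t.2
    exact ⟨b, t.2.subtype ∘ₗ g, by
      rw [LinearMap.range_comp, LinearMap.range_eq_top.2 hg, Submodule.map_top,
        Submodule.range_subtype]⟩
  choose nb ng hng using step
  let q : (Fin 1 → P) →ₗ[P] P ⧸ J := Submodule.mkQ J ∘ₗ LinearMap.proj 0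
  let seq : ℕ → T := fun i => Nat.rec ⟨1, LinearMap.ker q⟩
    (fun _ t => ⟨nb t, LinearMap.ker (ng t)⟩) i
  refine ⟨fun i => (seq i).1, fun i => ng (seq i), q, fun _ => 1, fun a => ?_, ?_, hng (seq 0),
    fun i => hng (seq (i + 1))⟩
  · simp [q]
    rw [Algebra.smul_def, mul_one]
    rfl
  · intro x
    obtain ⟨a, rfl⟩ := Submodule.Quotient.mk_surjective _ x
    exact ⟨fun _ => a, rfl⟩

variable {R : Type u} [CommRing R] [Algebra R P]

/-- The key computation. -/
theorem isNilpotent_of_hasFiniteTorDim [IsNoetherianRing P] [Module.Flat R P] (hπ : Surjective π)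
    {f : P'} (hker : RingHom.ker π = Ideal.span {f})
    (K : Ideal P') (hK : ∀ a, a ∈ K ↔ a * f = 0)
    (I : Ideal R) (hI : K.map π = I.map (algebraMap R P))
    {m : ℕ} (f' r' : Fin m → P') (g : P') (hr : ∀ j, r' j ∈ K)
    (hsum : ∑ j, f' j * r' j = f * g)
    (h : DRing.HasFiniteTorDim R (P ⧸ Ideal.span (Set.range fun j => π (f' j)))) :
    IsNilpotent (Ideal.Quotient.mk
      (Ideal.span (Set.range fun j => π (f' j)) ⊔ K.map π) (π g)) := by
  classical
  obtain ⟨n, hn⟩ := h
  set J := Ideal.span (Set.range fun j => π (f' j))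
  obtain ⟨b, d, q, e, hqe, hq, hd0, hd⟩ := exists_resolution J
  have hf : π f = 0 := by
    have : f ∈ RingHom.ker π := hker ▸ Ideal.mem_span_singleton_self f
    exact this
  choose d' hd' using fun i => exists_lift hπ (d i)
  obtain ⟨e', he'⟩ := pv_surjective hπ e
  let V := ℕ →₀ Lam P' m
  let D : V →ₗ[P'] V := dQ f' r'
  let Φ₀ : V →ₗ[P'] (Fin (b 0) → P') :=
    ((ExteriorAlgebra.algebraMapInv).toLinearMap ∘ₗ Finsupp.lapply 0).smulRight e'
  have hΦ₀ : ∀ x, pv π (Φ₀ x) = π (ExteriorAlgebra.algebraMapInv (x 0)) • e := fun x => by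
    rw [← he', ← pv_smul]; rfl
  have h0 : ∀ x, pv π (Φ₀ (D x)) ∈ LinearMap.range (d 0) := fun x => by
    rw [hd0, LinearMap.mem_ker, hΦ₀, hqe, Ideal.Quotient.eq_zero_iff_mem]
    have := Ideal.mem_map_of_mem π (algebraMapInv_dQ f' r' x)
    rwa [Ideal.map_span, ← Set.range_comp] at this
  obtain ⟨Φ, hΦ0, hΦ⟩ := exists_comparison hπ hf D
    (fun x => by
      obtain ⟨y, hy⟩ := dQ_dQ f' r' (f * g) hsum x
      exact ⟨g • y, by rw [hy, mul_smul]⟩) b d hd Φ₀ h0
  have hPR : ∀ b : ℕ, Module.Flat R (Fin b → P) := fun b =>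
    haveI : Module.Flat R (Fin b →₀ P) :=
      Module.Flat.of_linearEquiv (finsuppLEquivDirectSum R P (Fin b))
    Module.Flat.of_linearEquiv (Finsupp.linearEquivFunOnFinite R P (Fin b)).symm
  -- flatness of high syzygies
  have hflat : ∀ p, n ≤ p → Module.Flat R (LinearMap.range ((d p).restrictScalars R)) := fun p hp =>
    Tor15.flat_range hn (fun i => Fin (b i) → P) (fun i => (d i).restrictScalars R)
      (q.restrictScalars R) hq (SetLike.ext fun x => SetLike.ext_iff.1 hd0 x)
      (fun i => SetLike.ext fun x => SetLike.ext_iff.1 (hd i) x) p hp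
  have hyR : ∀ (b : ℕ) (x : Fin b → P), x ∈ K.map π • (⊤ : Submodule P (Fin b → P)) ↔
      x ∈ I • (⊤ : Submodule R (Fin b → P)) := fun b x => by
    rw [hI, ← Submodule.restrictScalars_mem R, Ideal.smul_restrictScalars,
      Submodule.restrictScalars_top]
  have hι : ∀ a : P', a • Finsupp.single 0 (1 : Lam P' m) = Finsupp.single 0 (a • 1) := fun a => by simp
  -- cycles modulo `I` in high degree are boundaries modulo `I`
  have hcyc : ∀ p, n ≤ p → ∀ x : Fin (b (p + 2)) → P,
      d (p + 1) x ∈ K.map π • (⊤ : Submodule P (Fin (b (p + 1)) → P)) →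
      ∃ w, x - d (p + 2) w ∈ K.map π • (⊤ : Submodule P (Fin (b (p + 2)) → P)) := by
    intro p hp x hx
    let dR := (d (p + 1)).restrictScalars R
    have hker' : LinearMap.range dR = LinearMap.ker ((d p).restrictScalars R) :=
      SetLike.ext fun y => SetLike.ext_iff.1 (hd p) y
    have := hflat p hp
    have : Module.Flat R ((Fin (b (p + 1)) → P) ⧸ LinearMap.range dR) :=
      Module.Flat.of_linearEquiv
        ((Submodule.quotEquivOfEq _ _ hker').trans ((d p).restrictScalars R).quotKerEquivRange)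
    have h1 := CAlgH.inf_smul_top_le_of_flat_quotient (LinearMap.range dR) I
      ⟨LinearMap.mem_range_self dR x, (hyR _ _).1 hx⟩
    rw [LinearMap.range_eq_map, ← Submodule.map_smul''] at h1
    obtain ⟨y, hy, hyx⟩ := h1
    obtain ⟨w, hw⟩ : x - y ∈ LinearMap.range (d (p + 2)) := by
      rw [hd, LinearMap.mem_ker, map_sub, sub_eq_zero]
      exact hyx.symm
    exact ⟨w, by rw [hw, sub_sub_cancel]; exact (hyR _ _).2 hy⟩
  have hKz : ∀ a : P', ∀ l, a • Finsupp.single l (ExteriorAlgebra.ι P' r') ∈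
      K • (⊤ : Submodule P' V) := by
    intro a l
    refine Submodule.smul_mem _ a ?_
    rw [show r' = ∑ j, r' j • (Pi.single j 1 : Fin m → P') by
      ext i; simp [Pi.single_apply], map_sum, ← Finsupp.lsingle_apply (R := P'), map_sum]
    refine Submodule.sum_mem _ fun j _ => ?_
    rw [map_smul, map_smul]
    exact Submodule.smul_mem_smul (hr j) trivial
  set k := n + 1
  have key : ∀ i, i ≤ k → ∃ w : Fin (b (2 * (k - i) + 1)) → P,
      pv π (Φ (2 * (k - i)) (g ^ i • Finsupp.single (k - i) 1)) - d (2 * (k - i)) w ∈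
        K.map π • (⊤ : Submodule P (Fin (b (2 * (k - i))) → P)) := by
    intro i
    induction i with
    | zero =>
      intro _
      obtain ⟨p, hp, hk2⟩ : ∃ p, n ≤ p ∧ 2 * (k - 0) = p + 2 := ⟨2 * n, by lia, by lia⟩
      rw [hk2]
      refine hcyc p hp _ ?_
      rw [pow_zero, one_smul, hΦ]
      refine pv_mem_smul ?_
      have : D (Finsupp.single (k - 0) 1) ∈ K • (⊤ : Submodule P' V) := by
        rw [Nat.sub_zero]
        have := hKz 1 n
        rwa [one_smul, ← dQ_single_one f' r'] at this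
      have h' := (Submodule.map_smul'' K ⊤ (Φ (p + 1))).le (Submodule.mem_map_of_mem this)
      exact Submodule.smul_mono le_rfl le_top h'
    | succ i ih =>
      intro hi
      obtain ⟨l, hl, hl'⟩ : ∃ l, k - i = l + 1 ∧ k - (i + 1) = l := ⟨k - (i + 1), by lia, rfl⟩
      have ih := ih (by lia)
      rw [hl] at ih
      rw [hl']
      obtain ⟨w, hw⟩ := ih
      obtain ⟨u, hu, huw⟩ := exists_pv_eq hπ hw
      set z := D (g ^ i • Finsupp.single (l + 1) 1) with hz
      have hzK : z ∈ K • (⊤ : Submodule P' V) := by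
        have := hKz (g ^ i) l
        rwa [← dQ_single_one f' r', ← map_smul] at this
      have hω : pv π (Φ (2 * l + 1) z - d' (2 * l + 1) u) = 0 := by
        rw [pv_sub, hd', huw, map_sub]
        have h1 : d (2 * l + 1) (pv π (Φ (2 * (l + 1)) (g ^ i • Finsupp.single (l + 1) 1))) =
            pv π (Φ (2 * l + 1) z) := hΦ (2 * l + 1) _
        have h2 : d (2 * l + 1) (d (2 * (l + 1)) w) = 0 :=
          LinearMap.mem_ker.1 ((hd (2 * l + 1)).le (LinearMap.mem_range_self _ w))
        erw [h1, h2]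
        rw [sub_zero, sub_self]
      obtain ⟨v, hv⟩ := exists_smul_of_pv_eq_zero hker hω
      have e1 : d' (2 * l) (Φ (2 * l + 1) z) = Φ (2 * l) (D z) := sub_eq_zero.1 <|
        eq_zero_of_pv_eq_zero hker (fun a ha => (hK a).1 ha)
          (d' (2 * l) ∘ₗ Φ (2 * l + 1) - Φ (2 * l) ∘ₗ D)
          (fun x => by simp [pv_sub, hd', hΦ]) hzK
      have e2 : d' (2 * l) (d' (2 * l + 1) u) = 0 :=
        eq_zero_of_pv_eq_zero hker (fun a ha => (hK a).1 ha)
          (d' (2 * l) ∘ₗ d' (2 * l + 1))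
          (fun x => by
            simp only [LinearMap.comp_apply, hd']
            exact LinearMap.mem_ker.1 ((hd (2 * l)).le (LinearMap.mem_range_self _ _))) hu
      have e3 : f • (d' (2 * l) v - Φ (2 * l) (g ^ (i + 1) • Finsupp.single l 1)) = 0 := by
        rw [smul_sub, ← map_smul, ← hv, map_sub, e1, e2, sub_zero, hz, map_smul D, map_smul D,
          dQ_dQ_single_one, hsum, map_smul, map_smul, map_smul, pow_succ, smul_smul, smul_smul,
          show g ^ i * (f * g) = f * (g ^ i * g) by ring, sub_self]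
      refine ⟨pv π v, ?_⟩
      rw [← hd', ← pv_sub]
      refine pv_mem_smul ?_
      rw [← neg_sub, Submodule.neg_mem_iff]
      exact mem_smul_top_of_forall fun j =>
        (hK _).2 (by simpa [mul_comm] using congrFun e3 j)
  have hlast := key k le_rfl
  rw [Nat.sub_self] at hlast
  obtain ⟨w, hw⟩ := hlast
  refine ⟨k, ?_⟩
  rw [← map_pow, ← map_pow, Ideal.Quotient.eq_zero_iff_mem]
  have hq0 : q (d 0 w) = 0 := LinearMap.mem_ker.1 (hd0.le (LinearMap.mem_range_self _ w))
  have h1 : q (pv π (Φ 0 (g ^ k • Finsupp.single 0 1)) - d 0 w) ∈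
      (K.map π).map (Ideal.Quotient.mk J) := by
    refine Submodule.smul_induction_on hw (fun a ha x _ => ?_)
      (fun x y hx hy => by rw [map_add]; exact add_mem hx hy)
    obtain ⟨c, hc⟩ := Ideal.Quotient.mk_surjective (q x)
    rw [map_smul, ← hc, Algebra.smul_def, Ideal.Quotient.algebraMap_eq]
    exact Ideal.mul_mem_right _ _ (Ideal.mem_map_of_mem _ ha)
  rw [map_sub, hq0, sub_zero, hΦ0, hΦ₀, hqe, ← Ideal.mem_comap,
    Ideal.comap_map_of_surjective _ Ideal.Quotient.mk_surjective, ← RingHom.ker_eq_comap_bot,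
    Ideal.mk_ker, sup_comm] at h1
  convert h1 using 2
  rw [Finsupp.smul_apply, Finsupp.single_eq_same]
  exact (by rw [map_smul, map_one, smul_eq_mul, mul_one] :
    ExteriorAlgebra.algebraMapInv (g ^ k • (1 : Lam P' m)) = g ^ k).symm

end main

end Groth.Agent.LCI15
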