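import Mathlib

/-!
# Vasconcelos' theorem: ideals of finite projective dimension with projective conormal module
-/

universe u

open CategoryTheory RingTheory.Sequence Module
open scoped nonZeroDivisors Pointwise

namespace Groth.Agent.LCI15

variable {R : Type u} [CommRing R]

/-- `M` has projective dimension `< n`. -/
abbrev PD (R : Type u) [CommRing R] (n : ℕ) (M : Type u) [AddCommGroup M] [Module R M] : Prop :=
  HasProjectiveDimensionLT (ModuleCat.of R M) n

lemma pd_succ {n : ℕ} {M : Type u} [AddCommGroup M] [Module R M] (h : PD R n M) :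
    PD R (n + 1) M :=
  hasProjectiveDimensionLT_of_ge _ n (n + 1) (Nat.le_succ n)

lemma pd_one_iff {M : Type u} [AddCommGroup M] [Module R M] :
    PD R 1 M ↔ Module.Projective R M := by
  rw [PD, ← projective_iff_hasProjectiveDimensionLT_one, ← IsProjective.iff_projective]

lemma pd_zero {M : Type u} [AddCommGroup M] [Module R M] (h : PD R 0 M) : Subsingleton M :=
  ModuleCat.isZero_iff_subsingleton.mp ((hasProjectiveDimensionLT_zero_iff_isZero _).mp h)

lemma pd_ker {n : ℕ} {M F : Type u} [AddCommGroup M] [Module R M] [AddCommGroup F] [Module R F]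
    [Module.Projective R F] {f : F →ₗ[R] M} (hf : Function.Surjective f) :
    PD R (n + 2) M ↔ PD R (n + 1) (LinearMap.ker f) := by
  let S : ShortComplex (ModuleCat.{u} R) := f.shortComplexKer
  have hS : S.ShortExact := LinearMap.shortExact_shortComplexKer hf
  exact hS.hasProjectiveDimensionLT_X₃_iff n inferInstance

lemma pd_retract {n : ℕ} {M N : Type u} [AddCommGroup M] [Module R M] [AddCommGroup N] [Module R N]
    (i : M →ₗ[R] N) (p : N →ₗ[R] M) (h : p ∘ₗ i = LinearMap.id) (hN : PD R n N) : PD R n M :=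
  (Retract.mk (X := ModuleCat.of R M) (Y := ModuleCat.of R N) (ModuleCat.ofHom i)
    (ModuleCat.ofHom p) (by rw [← ModuleCat.ofHom_comp, h]; rfl)).hasProjectiveDimensionLT n

/-- Over a ring in which the maximal ideal of the local ring has non-zero annihilator, a finite
module of finite projective dimension is projective. -/
theorem projective_of_pd [IsLocalRing R] [IsNoetherianRing R] {c : R} (hc0 : c ≠ 0)
    (hc : ∀ r ∈ IsLocalRing.maximalIdeal R, r * c = 0) (n : ℕ) :
    ∀ (M : Type u) [AddCommGroup M] [Module R M] [Module.Finite R M],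
      PD R n M → Module.Projective R M := by
  induction n with
  | zero => exact fun M _ _ _ h ↦ pd_one_iff.mp (pd_succ h)
  | succ n ih =>
    intro M _ _ _ h
    match n, ih, h with
    | 0, _, h => exact pd_one_iff.mp h
    | n + 1, ih, h =>
      rcases Module.exists_finite_presentation R M with ⟨F, _, _, _, _, f, hf⟩
      have hK : Module.Projective R (LinearMap.ker f) := ih _ ((pd_ker hf).mp h)
      have : Module.Free R (LinearMap.ker f) := Module.free_of_flat_of_isLocalRing
      have hsplit : ∃ l : F →ₗ[R] LinearMap.ker f, l ∘ₗ (LinearMap.ker f).subtype = .id := by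
        rw [IsLocalRing.split_injective_iff_lTensor_residueField_injective]
        rw [injective_iff_map_eq_zero]
        intro v hv
        obtain ⟨x, rfl⟩ : ∃ x, (1 : IsLocalRing.ResidueField R) ⊗ₜ[R] x = v :=
          TensorProduct.mk_surjective R (LinearMap.ker f) _ IsLocalRing.residue_surjective v
        rw [LinearMap.lTensor_tmul] at hv
        -- `x` lies in `m F`, so `c • x = 0`, so `x ∈ m K`
        have h1 : (x : F) ∈ IsLocalRing.maximalIdeal R • (⊤ : Submodule R F) := by
          have h := congrArg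
            (TensorProduct.quotTensorEquivQuotSMul F (IsLocalRing.maximalIdeal R)) hv
          erw [TensorProduct.quotTensorEquivQuotSMul_mk_tmul] at h
          rw [one_smul] at h
          exact (Submodule.Quotient.mk_eq_zero _).mp (h.trans (map_zero _))
        have h2 : c • x = 0 := by
          refine Subtype.ext ?_
          rw [Submodule.coe_smul]
          refine Submodule.smul_induction_on h1 (fun r hr y _ ↦ ?_) (fun y z hy hz ↦ ?_)
          · rw [smul_smul, mul_comm, hc r hr, zero_smul]; rfl
          · rw [smul_add, hy, hz]; simp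
        have h3 : x ∈ IsLocalRing.maximalIdeal R • (⊤ : Submodule R (LinearMap.ker f)) := by
          let b := Module.Free.chooseBasis R (LinearMap.ker f)
          rw [← b.linearCombination_repr x, Finsupp.linearCombination_apply]
          refine Submodule.sum_mem _ fun i _ ↦ Submodule.smul_mem_smul ?_ trivial
          by_contra hi
          have hu : IsUnit (b.repr x i) := not_not.mp hi
          have := congrArg (fun y ↦ b.repr y i) h2
          simp only [map_smul, Finsupp.smul_apply, smul_eq_mul, map_zero, Finsupp.coe_zero,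
            Pi.zero_apply] at this
          exact hc0 (hu.mul_left_eq_zero.mp this)
        refine Submodule.smul_induction_on h3 (fun r hr y _ ↦ ?_) (fun y z hy hz ↦ ?_)
        · rw [← TensorProduct.smul_tmul, Algebra.smul_def, mul_one,
            IsLocalRing.ResidueField.algebraMap_eq, IsLocalRing.residue_eq_zero_iff r |>.mpr hr,
            TensorProduct.zero_tmul]
        · rw [TensorProduct.tmul_add, hy, hz, add_zero]
      obtain ⟨l, hl⟩ := hsplit
      refine Module.Projective.of_split (M := F) ?_ f ?_ (R := R)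
      · exact ((LinearMap.ker f).liftQ (LinearMap.id - (LinearMap.ker f).subtype ∘ₗ l)
          (fun k hk ↦ by
            have := LinearMap.congr_fun hl ⟨k, hk⟩
            simp only [LinearMap.comp_apply, Submodule.coe_subtype, LinearMap.id_apply] at this
            simp [this])) ∘ₗ (f.quotKerEquivOfSurjective hf).symm.toLinearMap
      · ext m
        obtain ⟨y, rfl⟩ := hf m
        have : (f.quotKerEquivOfSurjective hf).symm (f y) = Submodule.Quotient.mk y := by
          rw [LinearEquiv.symm_apply_eq]; rfl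
        simp [this, LinearMap.mem_ker.mp (l y).2]

section localization

lemma pd_map (I : Ideal R) (S : Submonoid R) (A : Type u) [CommRing A] [Algebra R A]
    [IsLocalization S A] {n : ℕ} (h : PD R n I) : PD A (n + 1) (I.map (algebraMap R A)) := by
  have h1 : HasProjectiveDimensionLE (ModuleCat.of R I) n := pd_succ h
  have h2 := ModuleCat.localizedModule_hasProjectiveDimensionLE n S (ModuleCat.of R I)
  have := ModuleCat.localizedModule_isLocalizedModule (ModuleCat.of R I) S
  let e := IsLocalizedModule.linearEquiv S ((ModuleCat.of R I).localizedModuleMkLinearMap S)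
    (Algebra.idealMap I (S := A))
  let ρ : Localization S ≃ₐ[R] A := Localization.algEquiv S A
  have : RingHomInvPair (ρ.toRingEquiv : Localization S →+* A)
      (ρ.toRingEquiv.symm : A →+* Localization S) := RingHomInvPair.of_ringEquiv _
  have : RingHomInvPair (ρ.toRingEquiv.symm : A →+* Localization S)
      (ρ.toRingEquiv : Localization S →+* A) := RingHomInvPair.of_ringEquiv ρ.toRingEquiv.symm
  refine ModuleCat.hasProjectiveDimensionLE_of_semiLinearEquiv (M := (ModuleCat.of R I).localizedModule S)
    (N := ModuleCat.of A (I.map (algebraMap R A))) ρ.toRingEquiv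
    { e.toAddEquiv with map_smul' := fun r m ↦ ?_ } n
  obtain ⟨r, s, rfl⟩ := IsLocalization.exists_mk'_eq S r
  apply (IsLocalizedModule.map_units (Algebra.idealMap I (S := A)) s |>
    (Module.End.isUnit_iff _).mp).1
  change (s : R) • e _ = (s : R) • (ρ (IsLocalization.mk' _ r s) • e m)
  rw [← map_smul, ← algebraMap_smul (Localization S) (s : R), smul_smul,
    IsLocalization.mk'_spec', algebraMap_smul, map_smul,
    ← algebraMap_smul A (s : R) (_ • e m), smul_smul]
  rw [← ρ.commutes (s : R), ← map_mul, IsLocalization.mk'_spec', ρ.commutes, algebraMap_smul]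

end localization

/-- An ideal of finite projective dimension admitting a map to `R ⧸ I` with value `1` lies in no
associated prime. -/
theorem not_le_associatedPrime [IsNoetherianRing R] (I : Ideal R) {n : ℕ} (hpd : PD R n I)
    (φ : I →ₗ[R] R ⧸ I) (a : I) (ha : φ a = 1) {p : Ideal R}
    (hp : p ∈ associatedPrimes R R) : ¬ I ≤ p := by
  intro hIp
  obtain ⟨hprime, x, hx⟩ := isAssociatedPrime_iff.mp hp
  let A := Localization.AtPrime p
  have hc0 : algebraMap R A x ≠ 0 := by
    rw [ne_eq, IsLocalization.map_eq_zero_iff p.primeCompl]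
    rintro ⟨⟨s, hs⟩, hsx⟩
    exact hs (hx ▸ Submodule.mem_colon_singleton.mpr (by simpa using hsx))
  have hc : ∀ r ∈ IsLocalRing.maximalIdeal A, r * algebraMap R A x = 0 := by
    intro r hr
    obtain ⟨b, s, rfl⟩ := IsLocalization.exists_mk'_eq p.primeCompl r
    have hb : b ∈ p := (IsLocalization.AtPrime.mk'_mem_maximal_iff A p b s).mp hr
    have hbx : b * x = 0 := (Submodule.mem_bot R).mp (Submodule.mem_colon_singleton.mp (hx ▸ hb))
    rw [← (IsLocalization.map_units A s).mul_right_inj, ← mul_assoc, IsLocalization.mk'_spec',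
      ← map_mul, hbx]
    simp
  have hproj := projective_of_pd hc0 hc (n + 1) _ (pd_map I p.primeCompl A hpd)
  let J : Ideal A := I.map (algebraMap R A)
  have : Module.Free A J := Module.free_of_flat_of_isLocalRing
  have hJm : J ≤ IsLocalRing.maximalIdeal A :=
    (Localization.AtPrime.map_eq_maximalIdeal (I := p)) ▸ Ideal.map_mono hIp
  have hJ : ∀ z : J, z = 0 := by
    intro z
    let b := Module.Free.chooseBasis A J
    refine b.ext_elem fun i ↦ ?_
    have hb : algebraMap R A x • b i = 0 := Subtype.ext <| by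
      rw [Submodule.coe_smul, smul_eq_mul, mul_comm]; exact hc _ (hJm (b i).2)
    have h1 := congrArg (fun y ↦ b.repr y i) hb
    simp only [LinearEquiv.map_smul, Basis.repr_self, Finsupp.smul_apply, Finsupp.single_eq_same,
      smul_eq_mul, mul_one, map_zero, Finsupp.coe_zero, Pi.zero_apply] at h1
    exact absurd h1 hc0
  have h0 : algebraMap R A (a : R) = 0 :=
    congrArg Subtype.val (hJ ⟨_, Ideal.mem_map_of_mem _ a.2⟩)
  obtain ⟨⟨s, hs⟩, hsa⟩ := (IsLocalization.map_eq_zero_iff p.primeCompl A _).mp h0
  have : φ (s • a) = 0 := by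
    rw [show s • a = 0 from Subtype.ext (by simpa using hsa), map_zero]
  rw [map_smul, ha] at this
  exact hs (hIp (Ideal.Quotient.eq_zero_iff_mem.mp (by simpa [Algebra.smul_def] using this)))

/-- Davis' prime avoidance. -/
theorem exists_add_mem_nonZeroDivisors [IsNoetherianRing R] (I : Ideal R)
    (h : ∀ p ∈ associatedPrimes R R, ¬ I ≤ p) (a : R) :
    ∃ y ∈ I ^ 2, a + y ∈ R⁰ := by
  classical
  let P : Finset (Ideal R) :=
    (associatedPrimes.finite R R).toFinset.filter fun p ↦ Maximal (· ∈ associatedPrimes R R) p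
  let T := P.filter (a ∈ ·)
  let U := P.filter (a ∉ ·)
  have hP : ∀ p ∈ P, p.IsPrime ∧ Maximal (· ∈ associatedPrimes R R) p := fun p hp ↦ by
    simp only [P, Finset.mem_filter] at hp
    exact ⟨hp.2.1.1, hp.2⟩
  have hT : ¬ ((I ^ 2 ⊓ U.inf id : Ideal R) : Set R) ⊆ ⋃ p ∈ (T : Set (Ideal R)), (p : Ideal R) := by
    intro hsub
    obtain ⟨p, hp, hle⟩ := (Ideal.subset_union_prime (f := fun p : Ideal R ↦ p) ⊥ ⊥
      fun p hp _ _ ↦ (hP p (Finset.filter_subset _ _ hp)).1).mp hsub
    obtain ⟨hpP, hap⟩ := Finset.mem_filter.mp hp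
    have hprime := (hP p hpP).1
    obtain h2 | h2 := hprime.inf_le.mp hle
    · exact h p (hP p hpP).2.1 (hprime.le_of_pow_le h2)
    · obtain ⟨q, hq, hqp⟩ := (hprime.inf_le').mp h2
      obtain ⟨hqP, haq⟩ := Finset.mem_filter.mp hq
      exact haq ((hP q hqP).2.eq_of_le (hP p hpP).2.1 hqp ▸ hap)
  obtain ⟨y, hy, hyT⟩ := Set.not_subset.mp hT
  refine ⟨y, hy.1, ?_⟩
  by_contra hz
  have hzm : a + y ∈ (R⁰ : Set R)ᶜ := hz
  rw [← biUnion_associatedPrimes_eq_compl_nonZeroDivisors] at hzm
  simp only [Set.mem_iUnion, SetLike.mem_coe] at hzm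
  obtain ⟨p, hp, hpm⟩ := hzm
  obtain ⟨q, hpq, hq⟩ := (associatedPrimes.finite R R).exists_le_maximal hp
  have hqP : q ∈ P := by simp [P, hq, hq.1]
  by_cases haq : a ∈ q
  · exact hyT (Set.mem_iUnion₂.mpr ⟨q, Finset.mem_filter.mpr ⟨hqP, haq⟩,
      (Ideal.add_mem_iff_right q haq).mp (hpq hpm)⟩)
  · have : y ∈ q := (Finset.inf_le (Finset.mem_filter.mpr ⟨hqP, haq⟩) : U.inf id ≤ q) hy.2
    exact haq ((Ideal.add_mem_iff_left q this).mp (hpq hpm))

/-- Change of rings along a regular element. -/
theorem pd_quotSMulTop [IsNoetherianRing R] {x : R} (hx : x ∈ R⁰) (n : ℕ) :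
    ∀ (M : Type u) [AddCommGroup M] [Module R M] [Module.Finite R M],
      IsSMulRegular M x → PD R n M → PD (R ⧸ Ideal.span {x}) n (QuotSMulTop x M) := by
  induction n with
  | zero =>
    intro M _ _ _ _ h
    have := pd_zero h
    exact (ModuleCat.isZero_of_subsingleton _).hasProjectiveDimensionLT_zero
  | succ n ih =>
    intro M _ _ _ hreg h
    match n, ih, h with
    | 0, _, h =>
      have := pd_one_iff.mp h
      exact pd_one_iff.mpr <| Module.Projective.of_equiv
        ((QuotSMulTop.equivQuotTensor x M).extendScalarsOfSurjective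
          Ideal.Quotient.mk_surjective).symm
    | n + 1, ih, h =>
      rcases Module.exists_finite_presentation R M with ⟨F, _, _, _, _, f, hf⟩
      have hregF : IsSMulRegular F x := by
        have hRx : IsSMulRegular R x := fun a b hab ↦
          (mul_cancel_left_mem_nonZeroDivisors hx).mp hab
        intro a b hab
        refine (Module.Free.chooseBasis R F).repr.injective (Finsupp.ext fun i ↦ hRx ?_)
        simpa using congrArg (fun y ↦ (Module.Free.chooseBasis R F).repr y i) hab
      have hK : IsSMulRegular (LinearMap.ker f) x := fun a b hab ↦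
        Subtype.ext (hregF (congrArg Subtype.val hab))
      have hpd := ih _ hK ((pd_ker hf).mp h)
      let fb := (QuotSMulTop.map x f).extendScalarsOfSurjective
        (S := R ⧸ Ideal.span {x}) Ideal.Quotient.mk_surjective
      have hfb : Function.Surjective fb := QuotSMulTop.map_surjective x hf
      have : Module.Projective (R ⧸ Ideal.span {x}) (QuotSMulTop x F) :=
        Module.Projective.of_free
      refine (pd_ker hfb).mpr ?_
      let ι := (QuotSMulTop.map x (LinearMap.ker f).subtype).extendScalarsOfSurjective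
        (S := R ⧸ Ideal.span {x}) Ideal.Quotient.mk_surjective
      have hinj : Function.Injective ι := by
        have h12 : Function.Exact (0 : PUnit.{u+1} →ₗ[R] LinearMap.ker f)
            (LinearMap.ker f).subtype :=
          (LinearMap.exact_zero_iff_injective _ _).mpr Subtype.val_injective
        have := QuotSMulTop.map_first_exact_on_four_term_exact_of_isSMulRegular_last h12
          (LinearMap.exact_subtype_ker_map f) hreg
        rw [map_zero] at this
        exact (LinearMap.exact_zero_iff_injective _ _).mp this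
      have hrange : ∀ y, y ∈ LinearMap.ker fb ↔ y ∈ LinearMap.range ι := fun y ↦
        (QuotSMulTop.map_exact x (LinearMap.exact_subtype_ker_map f) hf) y
      let e : QuotSMulTop x (LinearMap.ker f) ≃ₗ[R ⧸ Ideal.span {x}] LinearMap.ker fb :=
        (LinearEquiv.ofInjective ι hinj).trans (LinearEquiv.ofEq _ _ (SetLike.ext hrange).symm)
      exact pd_retract e.symm.toLinearMap e.toLinearMap (by ext y; simp) hpd

/-- The key induction. -/
theorem exists_regular_sequence (r : ℕ) : ∀ (R : Type u) [CommRing R] [IsNoetherianRing R]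
    (I : Ideal R) (n : ℕ), PD R n I → ∀ (a : Fin r → I) (φ : Fin r → I →ₗ[R] R ⧸ I),
      (∀ i, φ i (a i) = 1) → (∀ i j, i ≠ j → φ i (a j) = 0) →
      ∃ x : Fin r → R, (∀ i, x i - a i ∈ I ^ 2) ∧ IsWeaklyRegular R (List.ofFn x) := by
  induction r with
  | zero => exact fun R _ _ I n _ a _ _ _ ↦ ⟨Fin.elim0, fun i ↦ i.elim0, by simp⟩
  | succ r ih =>
    intro R _ _ I n hpd a φ h1 h0
    obtain ⟨y, hy, hxy⟩ := exists_add_mem_nonZeroDivisors I
      (fun p hp ↦ not_le_associatedPrime I hpd (φ 0) (a 0) (h1 0) hp) (a 0 : R)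
    set x : R := a 0 + y with hxdef
    have hxI : x ∈ I := I.add_mem (a 0).2 (Ideal.pow_le_self two_ne_zero hy)
    have hsq : ∀ (ψ : I →ₗ[R] R ⧸ I) (z : R) (hz : z ∈ I), z ∈ I ^ 2 → ψ ⟨z, hz⟩ = 0 := by
      intro ψ z hz hz2
      have : (⟨z, hz⟩ : I) ∈ I • (⊤ : Submodule R I) := by
        rw [← Submodule.ker_mkQ (I • (⊤ : Submodule R I))]
        exact I.mem_toCotangent_ker.mpr hz2
      refine Submodule.smul_induction_on this (fun s hs b _ ↦ ?_) (fun b c hb hc ↦ by simp [hb, hc])
      rw [map_smul, Algebra.smul_def, Ideal.Quotient.algebraMap_eq,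
        Ideal.Quotient.eq_zero_iff_mem.mpr hs, zero_mul]
    have hφx : ∀ i, φ i ⟨x, hxI⟩ = φ i (a 0) := by
      intro i
      have : (⟨x, hxI⟩ : I) = a 0 + ⟨y, Ideal.pow_le_self two_ne_zero hy⟩ := Subtype.ext rfl
      rw [this, map_add, hsq _ _ _ hy, add_zero]
    let Rb := R ⧸ Ideal.span {x}
    let π := Ideal.Quotient.mk (Ideal.span {x})
    let Ib : Ideal Rb := I.map π
    let q : I →ₗ[R] Ib :=
      { toFun := fun b ↦ ⟨π b, Ideal.mem_map_of_mem _ b.2⟩
        map_add' := fun b c ↦ Subtype.ext (map_add π (b : R) (c : R))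
        map_smul' := fun s b ↦ Subtype.ext (map_mul π s (b : R)) }
    have hq : Function.Surjective q := fun z ↦ by
      obtain ⟨b, hb, hbz⟩ := (Ideal.mem_map_iff_of_surjective π Ideal.Quotient.mk_surjective).mp z.2
      exact ⟨⟨b, hb⟩, Subtype.ext hbz⟩
    have hqker : ∀ b : I, q b = 0 → ∃ s : R, b = s • (⟨x, hxI⟩ : I) := fun b hb ↦ by
      obtain ⟨s, hs⟩ := Ideal.mem_span_singleton.mp
        (Ideal.Quotient.eq_zero_iff_mem.mp (congrArg Subtype.val hb))
      exact ⟨s, Subtype.ext (by simpa [mul_comm] using hs)⟩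
    -- `Ib` is a retract of `I / xI`
    have hregI : IsSMulRegular I x := fun b c hbc ↦ Subtype.ext
      ((mul_cancel_left_mem_nonZeroDivisors hxy).mp (congrArg Subtype.val hbc))
    let ψ : (R ⧸ I) →ₗ[R] QuotSMulTop x I :=
      Submodule.liftQ I (LinearMap.toSpanSingleton R _ (Submodule.Quotient.mk ⟨x, hxI⟩))
        fun b hb ↦ by
          rw [LinearMap.mem_ker, LinearMap.toSpanSingleton_apply, ← Submodule.Quotient.mk_smul,
            Submodule.Quotient.mk_eq_zero]
          rw [show b • (⟨x, hxI⟩ : I) = x • (⟨b, hb⟩ : I) from Subtype.ext (mul_comm b x)]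
          exact Submodule.smul_mem_pointwise_smul _ x _ trivial
    let g : I →ₗ[R] QuotSMulTop x I := Submodule.mkQ _ - ψ ∘ₗ φ 0
    have hg : LinearMap.ker q ≤ LinearMap.ker g := fun b hb ↦ by
      obtain ⟨s, rfl⟩ := hqker b hb
      have h10 : φ 0 ⟨x, hxI⟩ = Submodule.Quotient.mk 1 := (hφx 0).trans (h1 0)
      simp only [LinearMap.mem_ker, g, map_smul, LinearMap.sub_apply, LinearMap.comp_apply, h10]
      rw [show ψ (Submodule.Quotient.mk 1) = (1 : R) • Submodule.Quotient.mk ⟨x, hxI⟩ from rfl,
        one_smul]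
      simp
    let sec : Ib →ₗ[R] QuotSMulTop x I :=
      (LinearMap.ker q).liftQ g hg ∘ₗ (q.quotKerEquivOfSurjective hq).symm.toLinearMap
    let ret : QuotSMulTop x I →ₗ[R] Ib :=
      (x • ⊤ : Submodule R I).liftQ q fun b hb ↦ by
        obtain ⟨c, _, rfl⟩ := (Submodule.mem_smul_pointwise_iff_exists _ _ _).mp hb
        exact Subtype.ext (Ideal.Quotient.eq_zero_iff_mem.mpr
          (Ideal.mul_mem_right _ _ (Ideal.mem_span_singleton_self x)))
    have hsec : ∀ z, ret (sec z) = z := fun z ↦ by
      obtain ⟨b, rfl⟩ := hq z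
      have : (q.quotKerEquivOfSurjective hq).symm (q b) = Submodule.Quotient.mk b := by
        rw [LinearEquiv.symm_apply_eq]; rfl
      simp only [sec, LinearMap.comp_apply, LinearEquiv.coe_coe, this, Submodule.liftQ_apply, g,
        LinearMap.sub_apply, map_sub]
      obtain ⟨t, ht⟩ := Ideal.Quotient.mk_surjective (φ 0 b)
      have hψ : ret (ψ (φ 0 b)) = 0 := by
        rw [← ht]
        change ret (t • Submodule.Quotient.mk ⟨x, hxI⟩) = 0
        rw [map_smul]
        have : q ⟨x, hxI⟩ = 0 := Subtype.ext
          (Ideal.Quotient.eq_zero_iff_mem.mpr (Ideal.mem_span_singleton_self x))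
        simp [ret, this]
      rw [hψ, sub_zero]
      rfl
    have hpdb : PD Rb n Ib :=
      pd_retract (sec.extendScalarsOfSurjective (S := Rb) Ideal.Quotient.mk_surjective)
        (ret.extendScalarsOfSurjective (S := Rb) Ideal.Quotient.mk_surjective)
        (LinearMap.ext hsec) (pd_quotSMulTop hxy n I hregI hpd)
    -- the data over `Rb`
    let θ : (R ⧸ I) →ₗ[R] Rb ⧸ Ib :=
      Submodule.liftQ I (((Algebra.linearMap Rb (Rb ⧸ Ib)).restrictScalars R) ∘ₗ Algebra.linearMap R Rb)
        fun b hb ↦ Ideal.Quotient.eq_zero_iff_mem.mpr (Ideal.mem_map_of_mem π hb)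
    have hker : ∀ i : Fin r, LinearMap.ker q ≤ LinearMap.ker (θ ∘ₗ φ i.succ) := fun i b hb ↦ by
      obtain ⟨s, rfl⟩ := hqker b hb
      rw [LinearMap.mem_ker, map_smul, LinearMap.comp_apply, hφx,
        h0 i.succ 0 (Fin.succ_ne_zero i), map_zero, smul_zero]
    let φb : Fin r → Ib →ₗ[Rb] Rb ⧸ Ib := fun i ↦
      ((LinearMap.ker q).liftQ _ (hker i) ∘ₗ
        (q.quotKerEquivOfSurjective hq).symm.toLinearMap).extendScalarsOfSurjective
          Ideal.Quotient.mk_surjective
    have hφb : ∀ i b, φb i (q b) = θ (φ i.succ b) := fun i b ↦ by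
      have : (q.quotKerEquivOfSurjective hq).symm (q b) = Submodule.Quotient.mk b := by
        rw [LinearEquiv.symm_apply_eq]; rfl
      change (LinearMap.ker q).liftQ _ (hker i) ((q.quotKerEquivOfSurjective hq).symm (q b)) = _
      rw [this]
      rfl
    have hθ1 : θ 1 = 1 := rfl
    obtain ⟨xb, hxb, hreg⟩ := ih Rb Ib n hpdb (fun i ↦ q (a i.succ)) φb
      (fun i ↦ by rw [hφb, h1, hθ1])
      (fun i j hij ↦ by rw [hφb, h0 _ _ (fun h ↦ hij (Fin.succ_injective _ h)), map_zero])
    have hmap : Ib ^ 2 = (I ^ 2).map π := (Ideal.map_pow π I 2).symm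
    choose z hz hzπ using fun i ↦ (Ideal.mem_map_iff_of_surjective π
      Ideal.Quotient.mk_surjective).mp (hmap ▸ hxb i)
    refine ⟨Fin.cons x fun i ↦ a i.succ + z i, ?_, ?_⟩
    · intro i
      cases i using Fin.cases with
      | zero => simpa [hxdef] using hy
      | succ i => simpa using hz i
    rw [List.ofFn_cons, isWeaklyRegular_cons_iff', List.map_ofFn]
    refine ⟨fun b c hbc ↦ (mul_cancel_left_mem_nonZeroDivisors hxy).mp hbc, ?_⟩
    have hxbe : (π ∘ fun i ↦ (a i.succ : R) + z i) = xb := funext fun i ↦ by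
      have : π (z i) = xb i - π (a i.succ) := hzπ i
      simp [Function.comp_apply, this]
    rw [hxbe]
    have htop : (x • ⊤ : Submodule R R) = Ideal.span {x} := by
      rw [← Submodule.ideal_span_singleton_smul, smul_eq_mul, Ideal.mul_top]
    let e : QuotSMulTop x R ≃ₗ[Rb] Rb :=
      { (Submodule.quotEquivOfEq _ _ htop).toAddEquiv with
        map_smul' := fun s w ↦ by
          obtain ⟨t, rfl⟩ := Ideal.Quotient.mk_surjective s
          obtain ⟨w, rfl⟩ := Submodule.Quotient.mk_surjective _ w
          rfl }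
    exact (e.isWeaklyRegular_congr _).mpr hreg

end Groth.Agent.LCI15
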